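import Mathlib
import Groth.Agent.H25AbCube.Dense
import Groth.Agent.H25AbCube.Abelian
import Groth.Agent.H19Grp.GroupCI
import Groth.Agent.H19Grp.IdentityComponent
import Groth.Agent.H19Grp.AlgClosedGeom
import Groth.Agent.H19Grp.GrpdSep
import Groth.Agent.H19Grp.Diagonal
import Groth.Agent.H28Tau.Basic

/-!
# The torsion of a proper identity component is dense
-/

set_option autoImplicit false
set_option linter.style.haveILetI false
set_option backward.isDefEq.respectTransparency.types false
set_option maxHeartbeats 1600000

universe u

open CategoryTheory CategoryTheory.Limits MonoidalCategory CartesianMonoidalCategory MonObj GrpObj AlgebraicGeometry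
open Groth.Agent

noncomputable section

namespace Groth.Agent.H28Geom

theorem isCommMonObj_of_mono {S : Scheme.{u}} {B G : Over S} [GrpObj B] [GrpObj G] [IsCommMonObj G] (i : B ⟶ G)
    [IsMonHom i] [Mono i] : IsCommMonObj B where
  mul_comm := by
    rw [← cancel_mono i]
    simp only [Category.assoc, IsMonHom.mul_hom]
    rw [← BraidedCategory.braiding_naturality_assoc, IsCommMonObj.mul_comm]

variable {K : Type u} [Field K] [IsAlgClosed K] (G : Over (Spec (CommRingCat.of K))) [GrpObj G]
  [IsCommMonObj G] [LocallyOfFiniteType G.hom]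

/-- The identity point. -/
abbrev ePt : G.left := (η[G]).left (IsLocalRing.closedPoint K)

/-- The prime-power torsion points of the group. -/
def torsPtsSet (l : ℕ) : Set G.left :=
  {z | IsClosed ({z} : Set G.left) ∧ ∃ n : ℕ, H28Tau.pw G (l ^ n) z = (ePt G)}

theorem component_subset_closure_torsion (U : G.left.Opens)
    (hU : connectedComponent (α := G.left) (ePt G) ⊆ U) [IsProper (U.ι ≫ G.hom)] (l : ℕ) [Fact l.Prime]
    (hl : (l : K) ≠ 0) : connectedComponent (α := G.left) (ePt G) ⊆ closure (torsPtsSet G l) := by
  obtain ⟨gR, hR⟩ := H19Grp.GroupCI.exists_grpObj_reduced G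
  let R : Over (Spec (CommRingCat.of K)) := Over.mk (G.left.nilradical.subschemeι ≫ G.hom)
  let i : R ⟶ G := Over.homMk G.left.nilradical.subschemeι rfl
  haveI : IsMonHom i := hR
  haveI : IsClosedImmersion i.left := inferInstanceAs (IsClosedImmersion G.left.nilradical.subschemeι)
  haveI : IsReduced R.left := inferInstanceAs (IsReduced G.left.nilradical.subscheme)
  haveI : LocallyOfFiniteType R.hom := by dsimp [R]; infer_instance
  haveI : Smooth R.hom := H19Grp.smooth_of_isReduced_perfect R
  have hsurj : Function.Surjective i.left := fun z => by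
    have h : z ∈ Set.range G.left.nilradical.subschemeι := by
      rw [Scheme.IdealSheafData.range_subschemeι]; trivial
    exact h
  obtain ⟨gB, hB⟩ := H19Grp.exists_grpObj_idComp R
  let B := H19Grp.idComp R
  let ιB := H19Grp.idCompι R
  let j : B ⟶ G := ιB ≫ i
  haveI : IsMonHom j := inferInstance
  haveI : IsClosedImmersion j.left := by rw [Over.comp_left]; infer_instance
  haveI : Mono j := Over.mono_of_mono_left _
  haveI : IsCommMonObj B := isCommMonObj_of_mono j
  haveI : Flat ιB.left := H19Grp.flat_clopenIdeal_subschemeι _
  haveI : IsLocallyNoetherian R.left := LocallyOfFiniteType.isLocallyNoetherian R.hom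
  haveI : LocallyOfFinitePresentation ιB.left := inferInstance
  haveI : Etale ιB.left := Etale.of_formallyUnramified_of_flat ιB.left
  haveI : Smooth B.hom := by rw [← Over.w ιB]; infer_instance
  have hje : j.left ((η[B]).left (IsLocalRing.closedPoint K)) = (ePt G) := by
    rw [← Scheme.Hom.comp_apply, ← Over.comp_left, IsMonHom.one_hom]
  have hcomp : i.left '' connectedComponent (α := R.left) ((η[R]).left (IsLocalRing.closedPoint K)) =
      connectedComponent (α := G.left) (ePt G) := by
    have h := Homeomorph.image_connectedComponentIn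
      (i.left.isClosedEmbedding.isEmbedding.toHomeomorphOfSurjective hsurj)
      (Set.mem_univ ((η[R]).left (IsLocalRing.closedPoint K)))
    rw [Set.image_univ_of_surjective (Homeomorph.surjective _), connectedComponentIn_univ,
      connectedComponentIn_univ] at h
    rw [show (ePt G) = i.left ((η[R]).left (IsLocalRing.closedPoint K)) by
      rw [← Scheme.Hom.comp_apply, ← Over.comp_left, IsMonHom.one_hom]]
    exact h
  have hrange : Set.range j.left = connectedComponent (α := G.left) (ePt G) := by
    rw [Over.comp_left, Scheme.Hom.comp_base, TopCat.coe_comp, Set.range_comp, H19Grp.range_idCompι, ← hcomp]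
    exact congrArg (fun x => i.left '' connectedComponent x) rfl
  haveI : ConnectedSpace B.left := by
    rw [connectedSpace_iff_univ]
    have h : _root_.IsConnected (Set.range j.left) := hrange ▸ isConnected_connectedComponent
    refine ⟨⟨(η[B]).left (IsLocalRing.closedPoint K), trivial⟩, ?_⟩
    rw [← j.left.isClosedEmbedding.isInducing.isPreconnected_image, Set.image_univ]
    exact h.isPreconnected
  haveI : GeometricallyConnected B.hom := H19Grp.geometricallyConnected_of_connectedSpace B.hom
  haveI : IsProper B.hom := by
    have hr : Set.range j.left ⊆ Set.range U.ι := by rw [Scheme.Opens.range_ι, hrange]; exact hU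
    have hfac : IsOpenImmersion.lift U.ι j.left hr ≫ U.ι = j.left := IsOpenImmersion.lift_fac _ _ _
    haveI : IsClosedImmersion (IsOpenImmersion.lift U.ι j.left hr ≫ U.ι) := by rw [hfac]; infer_instance
    haveI : IsClosedImmersion (IsOpenImmersion.lift U.ι j.left hr) :=
      IsClosedImmersion.of_comp _ U.ι
    rw [← Over.w j, ← hfac, Category.assoc]
    infer_instance
  haveI := H25AbCube.geometricallyIntegral_of_smooth B
  have hdense := H25AbCube.dense_torsSet (A := B) l hl
  intro z hz
  rw [← hrange] at hz
  obtain ⟨b, rfl⟩ := hz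
  refine (j.left.continuous.continuousWithinAt.mem_closure (hdense b) ?_)
  rintro _ ⟨n, a, ha, rfl⟩
  refine ⟨?_, n, ?_⟩
  · have hc : IsClosed ({H25AbCube.ptOf (a ≫ j)} : Set G.left) := by
      haveI : Subsingleton (Spec (CommRingCat.of K)) := inferInstance
      haveI : Subsingleton ↥(𝟙_ (Over (Spec (CommRingCat.of K)))).left :=
        inferInstanceAs (Subsingleton (Spec (CommRingCat.of K)))
      haveI : Subsingleton ↥(Over.mk (𝟙 (Spec (CommRingCat.of K)))).left :=
        inferInstanceAs (Subsingleton (Spec (CommRingCat.of K)))
      haveI : Nonempty ↥(Over.mk (𝟙 (Spec (CommRingCat.of K)))).left :=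
        inferInstanceAs (Nonempty (Spec (CommRingCat.of K)))
      haveI : IsSeparated G.hom := (H19Grp.isSeparated_iff_isClosedImmersion_one G).mpr
        (H19Grp.isClosedImmersion_section_of_subsingleton G.hom (η[G]).left (Over.w η[G]))
      haveI : IsClosedImmersion (a ≫ j).left := isClosedImmersion_of_comp_eq_id _ _ (Over.w (a ≫ j))
      have h := (a ≫ j).left.isClosedEmbedding.isClosed_range
      rwa [Set.range_eq_singleton_iff.2 fun t => congrArg (a ≫ j).left (Subsingleton.elim t _)] at h
    exact hc
  · show H28Tau.pw G (l ^ n) ((a ≫ j).left (IsLocalRing.closedPoint K)) = (ePt G)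
    rw [← H28Tau.pow_left_apply, ← MonObj.pow_comp, ha, MonObj.one_comp]
    show (toUnit (Over.mk (𝟙 (Spec (CommRingCat.of K)))) ≫ η[G]).left (IsLocalRing.closedPoint K) = _
    haveI : Subsingleton ↥(𝟙_ (Over (Spec (CommRingCat.of K)))).left :=
      inferInstanceAs (Subsingleton (Spec (CommRingCat.of K)))
    exact congrArg (η[G]).left (Subsingleton.elim _ _)

end Groth.Agent.H28Geom
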