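import Mathlib
import Groth.Agent.H22Alg.GeomReducedAt

/-!
# A reduced scheme with densely many points of separable residue field is geometrically reduced
-/

set_option autoImplicit false
set_option linter.style.haveILetI false
set_option backward.isDefEq.respectTransparency.types false
set_option maxHeartbeats 800000

universe u

open CategoryTheory CategoryTheory.Limits AlgebraicGeometry
open scoped TensorProduct

namespace Groth.Agent.H28Geom

theorem isGeometricallyReduced_of_formallyUnramified (k L : Type u) [Field k] [CommRing L] [Algebra k L]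
    [Algebra.FormallyUnramified k L] [Algebra.EssFiniteType k L] : Algebra.IsGeometricallyReduced k L := by
  rw [Algebra.isGeometricallyReduced_field_iff]
  exact Algebra.FormallyUnramified.isReduced_of_field (AlgebraicClosure k) (AlgebraicClosure k ⊗[k] L)

theorem geometricallyReduced_of_dense {k : Type u} [Field k] {X : Scheme.{u}} (f : X ⟶ Spec (CommRingCat.of k))
    [IsReduced X] (T : Set X) (hT : Dense T)
    (hu : ∀ y ∈ T, FormallyUnramified (X.fromSpecResidueField y ≫ f) ∧
      LocallyOfFiniteType (X.fromSpecResidueField y ≫ f)) : GeometricallyReduced f := by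
  refine H22Alg.VarGeom.geometricallyReduced_of_forall _ fun R i _ φ hφ => ?_
  letI := φ.hom.toAlgebra
  haveI : IsReduced (Spec R) := isReduced_of_isOpenImmersion i
  haveI : _root_.IsReduced R := (affine_isReduced_iff R).mp inferInstance
  let ι := {p : ↥(Spec R) // i p ∈ T}
  let χ : ∀ p : ↥(Spec R), R ⟶ CommRingCat.of ((Spec R).residueField p) := fun p =>
    Spec.preimage ((Spec R).fromSpecResidueField p)
  letI : ∀ p : ι, Algebra k ((Spec R).residueField p.1) := fun p => (φ ≫ χ p.1).hom.toAlgebra
  have hgr : ∀ p : ι, Algebra.IsGeometricallyReduced k ((Spec R).residueField p.1) := fun p => by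
    obtain ⟨h1, h2⟩ := hu _ p.2
    have e : Spec.map (φ ≫ χ p.1) =
        Spec.map (i.residueFieldMap p.1) ≫ (X.fromSpecResidueField (i p.1) ≫ f) := by
      rw [Spec.map_comp, Spec.map_preimage, hφ, ← Category.assoc, ← Category.assoc,
        Scheme.Hom.SpecMap_residueFieldMap_fromSpecResidueField]
    haveI : IsIso (i.residueFieldMap p.1) := inferInstance
    haveI := h1
    haveI := h2
    haveI : FormallyUnramified (Spec.map (φ ≫ χ p.1)) := by
      rw [e, MorphismProperty.cancel_left_of_respectsIso @FormallyUnramified]; exact h1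
    haveI : LocallyOfFiniteType (Spec.map (φ ≫ χ p.1)) := by
      rw [e, MorphismProperty.cancel_left_of_respectsIso @LocallyOfFiniteType]; exact h2
    haveI : Algebra.FormallyUnramified k ((Spec R).residueField p.1) :=
      RingHom.formallyUnramified_algebraMap.1 ((HasRingHomProperty.Spec_iff (P := @FormallyUnramified)).1 ‹_›)
    haveI : Algebra.FiniteType k ((Spec R).residueField p.1) :=
      RingHom.finiteType_algebraMap.1 ((HasRingHomProperty.Spec_iff (P := @LocallyOfFiniteType)).1 ‹_›)
    exact isGeometricallyReduced_of_formallyUnramified k _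
  refine H22Alg.GeomReducedAt.isGeometricallyReduced_of_separating (k := k) (ι := ι)
    (fun p => ((Spec R).residueField p.1 : Type u))
    (fun p => { (χ p.1).hom with commutes' := fun _ => rfl }) fun r hr => ?_
  have hd : Dense (i ⁻¹' T) := hT.preimage i.isOpenEmbedding.isOpenMap
  have hsub : ∀ p : ↥(Spec R), i p ∈ T → r ∈ PrimeSpectrum.asIdeal (R := ↑R) p := fun p hp => by
    obtain ⟨w⟩ : Nonempty ↥(Spec (CommRingCat.of ((Spec R).residueField p))) := inferInstance
    have hw : (Spec.map (χ p)) w = p := by
      rw [Spec.map_preimage]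
      exact (Spec R).fromSpecResidueField_apply p w
    have h0 : (χ p).hom r = 0 := hr ⟨p, hp⟩
    rw [← hw]
    show (χ p).hom r ∈ PrimeSpectrum.asIdeal w
    rw [h0]; exact Ideal.zero_mem _
  have hall : ∀ p : ↥(Spec R), r ∈ PrimeSpectrum.asIdeal (R := ↑R) p := fun p =>
    closure_minimal (t := {q : ↥(Spec R) | r ∈ PrimeSpectrum.asIdeal (R := ↑R) q}) hsub
      (by
        have h := PrimeSpectrum.isClosed_zeroLocus ({r} : Set R)
        simp only [PrimeSpectrum.zeroLocus, Set.singleton_subset_iff] at h
        exact h) (hd p)
  exact IsReduced.eq_zero r (nilpotent_iff_mem_prime.2 fun J hJ => hall ⟨J, hJ⟩)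

end Groth.Agent.H28Geom
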