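import Mathlib
import Groth.Agent.H28Geom.AbPart
import Groth.Agent.H28Geom.GeomRed
import Groth.Agent.H19Grp.EtaleEndo
import Groth.Agent.H18Descent.Basic
import Groth.Agent.H17.Reduced
import Groth.Agent.H17.Topology

/-!
# The reduced identity component of a commutative group with proper identity component is smooth
-/

set_option autoImplicit false
set_option linter.style.haveILetI false
set_option backward.isDefEq.respectTransparency.types false
set_option maxHeartbeats 1600000

universe u

open CategoryTheory CategoryTheory.Limits MonoidalCategory CartesianMonoidalCategory MonObj GrpObj AlgebraicGeometry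
open Groth.Agent

noncomputable section

namespace Groth.Agent.H28Geom

variable {k : Type u} [Field k] (G : Over (Spec (CommRingCat.of k))) [GrpObj G]
  [LocallyOfFiniteType G.hom] [IsSeparated G.hom]

/-- A point killed by `n` invertible in `k` has unramified residue field. -/
theorem formallyUnramified_torsion [IsCommMonObj G] {A : Scheme.{u}} (i : A ⟶ G.left) [IsClosedImmersion i]
    (y : A) (hy : IsClosed ({i y} : Set G.left)) (n : ℕ) (hn : (n : k) ≠ 0) (hyn : H28Tau.pw G n (i y) = ePt G) :
    FormallyUnramified (A.fromSpecResidueField y ≫ i ≫ G.hom) ∧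
      LocallyOfFiniteType (A.fromSpecResidueField y ≫ i ≫ G.hom) := by
  let nG : G.left ⟶ G.left := ((𝟙 G : G ⟶ G) ^ (n : ℤ)).left
  haveI : Etale nG := H19Grp.etale_zpow_field' G n (by exact_mod_cast hn)
  have hnG : nG = ((𝟙 G : G ⟶ G) ^ n).left := by simp only [nG, zpow_natCast]
  haveI : IsClosedImmersion (η[G]).left := by
    haveI : Subsingleton (Spec (CommRingCat.of k)) := inferInstance
    exact H19Grp.isClosedImmersion_section_of_subsingleton G.hom (η[G]).left (Over.w η[G])
  let a : Spec (A.residueField y) ⟶ G.left := A.fromSpecResidueField y ≫ i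
  haveI : IsClosedImmersion (A.fromSpecResidueField y) := by
    refine IsClosedImmersion.iff_isPreimmersion.mpr ⟨inferInstance, ?_⟩
    rw [Scheme.range_fromSpecResidueField]
    have h := hy.preimage i.continuous
    have he : i ⁻¹' {i y} = {y} := by
      ext z
      exact ⟨fun hz => i.isClosedEmbedding.injective hz, fun hz => congrArg i hz⟩
    rwa [he] at h
  haveI : IsClosedImmersion a := inferInstanceAs (IsClosedImmersion (A.fromSpecResidueField y ≫ i))
  have hr : Set.range (a ≫ nG) ⊆ Set.range (η[G]).left := by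
    rintro _ ⟨w, rfl⟩
    refine ⟨IsLocalRing.closedPoint k, ?_⟩
    show ePt G = nG (i (A.fromSpecResidueField y w))
    rw [A.fromSpecResidueField_apply, hnG]
    exact hyn.symm
  obtain ⟨b, hb⟩ := H17.exists_lift_of_range_subset (a ≫ nG) (η[G]).left hr
  let l : Spec (A.residueField y) ⟶ pullback nG (η[G]).left := pullback.lift a b hb.symm
  have hl : l ≫ pullback.fst nG (η[G]).left = a := pullback.lift_fst _ _ _
  haveI : IsClosedImmersion (pullback.fst nG (η[G]).left) :=
    MorphismProperty.pullback_fst _ _ inferInstance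
  haveI : IsClosedImmersion (l ≫ pullback.fst nG (η[G]).left) := by rw [hl]; infer_instance
  haveI : IsClosedImmersion l := IsClosedImmersion.of_comp l (pullback.fst nG (η[G]).left)
  haveI : Etale (pullback.snd nG (η[G]).left) := MorphismProperty.pullback_snd _ _ inferInstance
  have he : A.fromSpecResidueField y ≫ i ≫ G.hom =
      l ≫ pullback.snd nG (η[G]).left ≫ (η[G]).left ≫ G.hom := by
    rw [← Category.assoc (A.fromSpecResidueField y), ← pullback.condition_assoc, ← Category.assoc l, hl,
      Over.w ((𝟙 G : G ⟶ G) ^ (n : ℤ))]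
  have he' : A.fromSpecResidueField y ≫ i ≫ G.hom = l ≫ pullback.snd nG (η[G]).left := by
    rw [he, Over.w η[G]]
    exact congrArg (l ≫ ·) (Category.comp_id _)
  rw [he']
  haveI : FormallyUnramified l := FormallyUnramified.of_comp l (pullback.fst nG (η[G]).left)
  exact ⟨MorphismProperty.comp_mem (W := @FormallyUnramified) _ _ inferInstance inferInstance, inferInstance⟩

/-- Base change to the algebraic closure. -/
abbrev gK (k : Type u) [Field k] : Spec (CommRingCat.of (AlgebraicClosure k)) ⟶ Spec (CommRingCat.of k) :=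
  Spec.map (CommRingCat.ofHom (algebraMap k (AlgebraicClosure k)))

variable {A : Scheme.{u}} (i : A ⟶ G.left) [IsClosedImmersion i]

theorem exists_dense_torsion [IsCommMonObj G] (U : G.left.Opens) [IsProper (U.ι ≫ G.hom)]
    (hU : (U : Set G.left) = connectedComponent (ePt G)) (hi : Set.range i = connectedComponent (ePt G)) :
    ∃ T : Set A, Dense T ∧ ∀ y ∈ T, FormallyUnramified (A.fromSpecResidueField y ≫ i ≫ G.hom) ∧
      LocallyOfFiniteType (A.fromSpecResidueField y ≫ i ≫ G.hom) := by
  obtain ⟨l, hlp, hl⟩ : ∃ l : ℕ, l.Prime ∧ (l : k) ≠ 0 := by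
    by_cases h2 : ((2 : ℕ) : k) = 0
    · refine ⟨3, Nat.prime_three, fun h3 => one_ne_zero (α := k) ?_⟩
      rw [show (1 : k) = ((3 : ℕ) : k) - ((2 : ℕ) : k) by norm_num, h2, h3, sub_zero]
    · exact ⟨2, Nat.prime_two, h2⟩
  haveI : Fact l.Prime := ⟨hlp⟩
  refine ⟨{y | IsClosed ({i y} : Set G.left) ∧ ∃ n : ℕ, H28Tau.pw G (l ^ n) (i y) = ePt G}, ?_,
    fun y hy => ?_⟩
  swap
  · obtain ⟨hc, n, hn⟩ := hy
    exact formallyUnramified_torsion G i y hc (l ^ n) (by rw [Nat.cast_pow]; exact pow_ne_zero _ hl) hn
  let K := AlgebraicClosure k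
  let g := gK k
  let F := Over.pullback g
  letI : GrpObj (F.obj G) := Functor.grpObjObj
  haveI : IsCommMonObj (F.obj G) := inferInstance
  let π : (F.obj G).left ⟶ G.left := pullback.fst G.hom g
  haveI : LocallyOfFiniteType (F.obj G).hom := inferInstanceAs (LocallyOfFiniteType (pullback.snd G.hom g))
  haveI : IsIntegralHom g := IsIntegralHom.SpecMap_iff.mpr (by
    show (algebraMap k K).IsIntegral
    exact fun x => Algebra.IsIntegral.isIntegral x)
  haveI : IsIntegralHom π := MorphismProperty.pullback_fst _ _ inferInstance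
  have hπe : π (ePt (F.obj G)) = ePt G := by
    have h : ∀ z, π ((η[F.obj G]).left z) = ePt G := fun z => by
      have h1 : (η[F.obj G]).left ≫ π = (Functor.LaxMonoidal.ε F).left ≫ (pullback.fst (𝟙_ (Over (Spec (CommRingCat.of k)))).hom g) ≫ (η[G]).left := by
        rw [Functor.obj.η_def, Over.comp_left, Category.assoc]
        congr 1
        exact pullback.lift_fst _ _ _
      haveI : Subsingleton ↥(𝟙_ (Over (Spec (CommRingCat.of k)))).left :=
        inferInstanceAs (Subsingleton (Spec (CommRingCat.of k)))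
      rw [← Scheme.Hom.comp_apply, h1, Scheme.Hom.comp_apply, Scheme.Hom.comp_apply]
      exact congrArg (η[G]).left (Subsingleton.elim _ _)
    exact h _
  have hmap : ∀ (n : ℕ) z, π (H28Tau.pw (F.obj G) n z) = H28Tau.pw G n (π z) := fun n z => by
    have e : F.map ((𝟙 G : G ⟶ G) ^ n) = (𝟙 (F.obj G)) ^ n := by
      refine (map_pow (Functor.homMonoidHom F (X := G) (M := G)) (𝟙 G) n).trans ?_
      show (F.map (𝟙 G)) ^ n = _
      rw [F.map_id]
    have hc : (F.map ((𝟙 G : G ⟶ G) ^ n)).left ≫ π = π ≫ ((𝟙 G : G ⟶ G) ^ n).left := pullback.lift_fst _ _ _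
    rw [H28Tau.pw, ← e, H28Tau.pw, ← Scheme.Hom.comp_apply, hc, Scheme.Hom.comp_apply]
  have hclosed : IsClosedMap π := π.isClosedMap
  have hopen : IsOpenMap π := H19Grp.isOpenMap_pullback_fst G.hom g
  let C' := connectedComponent (ePt (F.obj G))
  haveI : LocallyConnectedSpace (F.obj G).left := by
    haveI : IsLocallyNoetherian (F.obj G).left := LocallyOfFiniteType.isLocallyNoetherian (F.obj G).hom
    refine H17.locallyConnectedSpace_of_locallyNoetherian fun x => ?_
    obtain ⟨_, ⟨(V : (F.obj G).left.Opens), (hV : IsAffineOpen V), rfl⟩, hxV, -⟩ :=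
      (F.obj G).left.isBasis_affineOpens.exists_subset_of_mem_open (Set.mem_univ x) isOpen_univ
    haveI : IsNoetherianRing Γ((F.obj G).left, V) := IsLocallyNoetherian.component_noetherian ⟨V, hV⟩
    exact ⟨V, V.2.mem_nhds hxV, hV.isoSpec.hom.homeomorph.isEmbedding.noetherianSpace⟩
  have himg : π '' C' = connectedComponent (ePt G) := by
    refine Set.Subset.antisymm ?_ ?_
    · rw [← hπe]
      exact π.continuous.image_connectedComponent_subset _
    · exact IsClopen.connectedComponent_subset
        ⟨hclosed _ isClosed_connectedComponent, hopen _ isOpen_connectedComponent⟩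
        ⟨_, mem_connectedComponent, hπe⟩
  let V : (F.obj G).left.Opens := π ⁻¹ᵁ U
  haveI : IsProper (V.ι ≫ (F.obj G).hom) := by
    let e : V.toScheme ⟶ pullback (U.ι ≫ G.hom) g :=
      pullback.lift (π ∣_ U) (V.ι ≫ pullback.snd G.hom g) (by
        rw [morphismRestrict_ι_assoc, pullback.condition, Category.assoc])
    let m := pullback.map (U.ι ≫ G.hom) g G.hom g U.ι (𝟙 _) (𝟙 _) (by simp) (by simp)
    haveI : IsOpenImmersion m :=
      MorphismProperty.pullbackMap (P := @IsOpenImmersion) (inferInstanceAs (IsOpenImmersion U.ι))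
        (inferInstanceAs (IsOpenImmersion (𝟙 _))) rfl (Category.id_comp g).symm
    have he : e ≫ m = V.ι := by
      refine pullback.hom_ext ?_ ?_
      · rw [Category.assoc, pullback.lift_fst, ← Category.assoc, pullback.lift_fst, morphismRestrict_ι]
      · rw [Category.assoc, pullback.lift_snd, Category.comp_id, pullback.lift_snd]
    have hr : Set.range V.ι = Set.range m := by
      rw [Scheme.Pullback.range_map, Scheme.Opens.range_ι, Scheme.Opens.range_ι]
      ext z
      simp [V, π]
    have h2 : e = (IsOpenImmersion.isoOfRangeEq V.ι m hr).hom := by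
      rw [← cancel_mono m, he, IsOpenImmersion.isoOfRangeEq_hom_fac]
    haveI : IsIso e := by rw [h2]; infer_instance
    have hsnd : e ≫ pullback.snd (U.ι ≫ G.hom) g = V.ι ≫ (F.obj G).hom := pullback.lift_snd _ _ _
    rw [← hsnd]
    infer_instance
  have hlK : (l : K) ≠ 0 := by
    rw [← map_natCast (algebraMap k K)]; exact fun h0 => hl ((map_eq_zero _).1 h0)
  have hsub := component_subset_closure_torsion (F.obj G) V (fun z hz => by
    show π z ∈ (U : Set G.left)
    rw [hU, ← himg]
    exact ⟨z, hz, rfl⟩) l hlK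
  have hT : connectedComponent (ePt G) ⊆ closure (π '' torsPtsSet (F.obj G) l) := by
    rw [← himg]
    exact (Set.image_mono hsub).trans (image_closure_subset_closure_image π.continuous)
  rw [dense_iff_closure_eq, Set.eq_univ_iff_forall]
  intro a
  rw [i.isClosedEmbedding.isInducing.closure_eq_preimage_closure_image, Set.mem_preimage]
  have hsub' : connectedComponent (ePt G) ⊆
      closure (π '' torsPtsSet (F.obj G) l ∩ connectedComponent (ePt G)) := by
    have hop : IsOpen (connectedComponent (ePt G)) := hU ▸ U.2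
    exact fun z hz => hop.inter_closure.trans (by rw [Set.inter_comm]) ⟨hz, hT hz⟩
  refine closure_mono ?_ (hsub' (hi ▸ ⟨a, rfl⟩))
  rintro _ ⟨⟨z, ⟨hzc, n, hzn⟩, rfl⟩, hzC⟩
  rw [← hi] at hzC
  obtain ⟨b, hb⟩ := hzC
  refine ⟨b, ⟨?_, n, ?_⟩, hb⟩
  · rw [hb, ← Set.image_singleton]
    exact hclosed _ hzc
  · rw [hb, ← hmap, hzn, hπe]

theorem smooth_of_geometricallyReduced [GeometricallyReduced (i ≫ G.hom)]
    (hopen : IsOpen (Set.range i)) : Smooth (i ≫ G.hom) := by
  let K := AlgebraicClosure k
  let g := gK k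
  let F := Over.pullback g
  letI : GrpObj (F.obj G) := Functor.grpObjObj
  haveI : LocallyOfFiniteType (F.obj G).hom := inferInstanceAs (LocallyOfFiniteType (pullback.snd G.hom g))
  obtain ⟨gR, -⟩ := H19Grp.GroupCI.exists_grpObj_reduced (F.obj G)
  let R : Over (Spec (CommRingCat.of K)) := Over.mk ((F.obj G).left.nilradical.subschemeι ≫ (F.obj G).hom)
  haveI : IsReduced R.left := inferInstanceAs (IsReduced (F.obj G).left.nilradical.subscheme)
  haveI : LocallyOfFiniteType R.hom := by dsimp [R]; infer_instance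
  haveI : Smooth R.hom := H19Grp.smooth_of_isReduced_perfect R
  let r : R.left ⟶ (F.obj G).left := (F.obj G).left.nilradical.subschemeι
  haveI : IsClosedImmersion r := inferInstanceAs (IsClosedImmersion (F.obj G).left.nilradical.subschemeι)
  haveI hred : IsReduced (pullback (i ≫ G.hom) g) :=
    GeometricallyReduced.geometrically_isReduced _ _ _ (.of_hasPullback _ _)
  let m : pullback (i ≫ G.hom) g ⟶ (F.obj G).left :=
    pullback.map (i ≫ G.hom) g G.hom g i (𝟙 _) (𝟙 _) (by simp) (by simp)
  haveI : IsClosedImmersion m :=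
    MorphismProperty.pullbackMap (P := @IsClosedImmersion) (inferInstanceAs (IsClosedImmersion i))
      (inferInstanceAs (IsClosedImmersion (𝟙 _))) rfl (Category.id_comp g).symm
  have hr : Function.Surjective r := fun z => by
    have h : z ∈ Set.range (F.obj G).left.nilradical.subschemeι := by
      rw [Scheme.IdealSheafData.range_subschemeι]; trivial
    exact h
  obtain ⟨m', hm'⟩ := H17.exists_lift_of_range_subset m r (fun z _ => by rw [hr.range_eq]; trivial)
  haveI : IsClosedImmersion (m' ≫ r) := by rw [hm']; infer_instance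
  haveI : IsClosedImmersion m' := IsClosedImmersion.of_comp m' r
  have hrange : Set.range m' = r ⁻¹' (pullback.fst G.hom g ⁻¹' Set.range i) := by
    have h : Set.range m = pullback.fst G.hom g ⁻¹' Set.range i := by
      rw [Scheme.Pullback.range_map]
      simp
    rw [← h, ← hm']
    ext z
    exact ⟨fun ⟨t, ht⟩ => ⟨t, by rw [Scheme.Hom.comp_apply, ht]⟩,
      fun ⟨t, ht⟩ => ⟨t, r.isClosedEmbedding.injective (by rw [← ht, Scheme.Hom.comp_apply])⟩⟩
  let W : R.left.Opens := ⟨Set.range m', by
    rw [hrange]
    exact (hopen.preimage (pullback.fst G.hom g).continuous).preimage r.continuous⟩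
  let w := IsOpenImmersion.lift W.ι m' (by rw [Scheme.Opens.range_ι]; rfl)
  have hw : w ≫ W.ι = m' := IsOpenImmersion.lift_fac _ _ _
  haveI : IsClosedImmersion (w ≫ W.ι) := by rw [hw]; infer_instance
  haveI : IsClosedImmersion w := IsClosedImmersion.of_comp w W.ι
  haveI : Surjective w := ⟨fun z => by
    obtain ⟨t, ht⟩ : W.ι z ∈ Set.range m' := z.2
    exact ⟨t, W.ι.isOpenEmbedding.injective (by rw [← Scheme.Hom.comp_apply, hw, ht])⟩⟩
  haveI : IsReduced W.toScheme := isReduced_of_isOpenImmersion W.ι
  haveI : IsIso w := isIso_of_isClosedImmersion_of_surjective w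
  have hs : pullback.snd (i ≫ G.hom) g = w ≫ W.ι ≫ R.hom := by
    rw [reassoc_of% hw, show m' ≫ R.hom = (m' ≫ r) ≫ (F.obj G).hom from (Category.assoc _ _ _).symm, hm']
    exact ((pullback.lift_snd _ _ _).trans (Category.comp_id _)).symm
  haveI hsm : Smooth (pullback.snd (i ≫ G.hom) g) := by rw [hs]; infer_instance
  haveI : MorphismProperty.DescendsAlong @Smooth H18Descent.fpqc.{u} :=
    inferInstanceAs (MorphismProperty.DescendsAlong @Smooth (@Surjective ⊓ @Flat ⊓ @QuasiCompact))
  exact MorphismProperty.of_pullback_snd_of_descendsAlong (P := @Smooth)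
    (Q := H18Descent.fpqc) (g := g) ⟨⟨inferInstance, inferInstance⟩, inferInstance⟩ hsm

end Groth.Agent.H28Geom
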